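import Cfsg.Agent.H920.HT.RegEnd
import Cfsg.Agent.H168.HT.Cnt
import Cfsg.Agent.H637.HT.Fus

/-!
# S4933, box H2 (helper920): the height lemma for the isometry groups of weight 2, unitary primes

`not_dvd_of_two` : `2 c = ord_p(q)`, `|F.iso|_p = p ^ (2 a)`, `p ^ (a + 1) ∤ q ^ c + 1`, `dim V < 6 c`; `Y ≠ Y'` irreducible
characters of `F.iso`, `Y` in the principal block, `Y + Y' = 0` on the elements which fix no totally singular `2 c`-space: `p`
does not divide `Y(1)`.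
-/

set_option autoImplicit false

namespace Cfsg.Agent.H920.HT

open Module Cfsg Cfsg.Agent.H324.AP Cfsg.Agent.H477.HC Cfsg.Agent.H53.HC

universe u v

theorem cast_ne_zero {K : Type u} [Field K] [Finite K] {p c : ℕ} [hp : Fact p.Prime] (hc : 0 < c)
    (ho : orderOf ((Nat.card K : ℕ) : ZMod p) = 2 * c) : (p : K) ≠ 0 := by
  intro h0
  obtain ⟨r, hr⟩ := CharP.exists K
  have hrp : r.Prime := (CharP.char_is_prime_or_zero K r).resolve_right (CharP.char_ne_zero_of_finite K r)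
  have h1 := (CharP.cast_eq_zero_iff K r p).1 h0
  have h2 : r = p := (Nat.prime_dvd_prime_iff_eq hrp hp.out).1 h1
  subst h2
  have := Fintype.ofFinite K
  obtain ⟨n, -, hn⟩ := FiniteField.card K r
  have h3 : ((Nat.card K : ℕ) : ZMod r) = 0 := by
    rw [Nat.card_eq_fintype_card, hn, ZMod.natCast_eq_zero_iff]
    exact dvd_pow_self r n.2.ne'
  rw [h3] at ho
  have h4 : orderOf (0 : ZMod r) = 0 := by
    rw [orderOf_eq_zero_iff']
    intro n hn h2
    rw [zero_pow hn.ne'] at h2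
    exact zero_ne_one h2
  omega

/-- **H1 + H2** -/
theorem not_dvd_of_two {K : Type u} [Field K] [Finite K] {V : Type v} [AddCommGroup V] [Module K V] [Finite V]
    [FiniteDimensional K V] {p : ℕ} [hp : Fact p.Prime] (hp2 : p ≠ 2) (Fm : CForm K V) {a c : ℕ} (ha0 : 0 < a)
    (hc : 0 < c) (ho : orderOf ((Nat.card K : ℕ) : ZMod p) = 2 * c) (ha : ¬ p ^ (a + 1) ∣ Nat.card K ^ c + 1)
    (hdim : finrank K V < 6 * c) (hfac : (Nat.card Fm.iso).factorization p = 2 * a)
    {M : Ideal AlgInt} (hM : IsPModular p M) {Y Y' : IrrCharacter Fm.iso} (hY : Y ∈ principalBlock M Fm.iso)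
    (hne : Y ≠ Y') (hv : ∀ g : Fm.iso, (∀ W ∈ Fm.Om (2 * c), g ∉ stabW Fm.iso.subtype W) →
      (Y : Fm.iso → ℂ) g + (Y' : Fm.iso → ℂ) g = 0) : ¬ p ∣ charDegree (Y : Fm.iso → ℂ) := by
  have hfinG : Finite (V ≃ₗ[K] V) := Finite.of_injective (fun g : V ≃ₗ[K] V => (g : V → V)) DFunLike.coe_injective
  have hpF : (p : K) ≠ 0 := cast_ne_zero hc ho
  obtain ⟨P⟩ : Nonempty (Sylow p Fm.iso) := inferInstance
  have hPc : Nat.card P = p ^ (2 * a) := by rw [P.card_eq_multiplicity, hfac]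
  have hPc' : Nat.card ((P : Subgroup Fm.iso).map Fm.iso.subtype) = p ^ (2 * a) := by
    rw [← hPc]
    exact (Nat.card_congr ((P : Subgroup Fm.iso).equivMapOfInjective Fm.iso.subtype Fm.iso.subtype_injective).toEquiv).symm
  obtain ⟨D, H⟩ := exists_twoB hp2 hpF (splF Fm) (syl_map Fm.iso P) ha0 hc ho ha hdim hPc'
  exact not_dvd_aux Fm ha0 hc ho hdim P hPc H (Cfsg.Agent.H168.HT.card_reg hpF H hc)
    (fun x hx => Cfsg.Agent.H637.HT.fusion hpF H hx) hM hY hne hv

end Cfsg.Agent.H920.HT
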