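import Cfsg.Agent.H920.HT.RegA
import Cfsg.Agent.H79.HT.NoTS
import Cfsg.Agent.H567.HT.Height
import Cfsg.Agent.H477.HC.Main

/-!
# S4933, box H2 (helper920): the height lemma for the isometry groups

`not_dvd_aux` : the fusion bound and the count of the regular elements give `p ∤ Y(1)`.
-/

set_option autoImplicit false
set_option linter.unusedSectionVars false

namespace Cfsg.Agent.H920.HT

open Submodule Module Polynomial Cfsg Cfsg.Agent.H324.AP Cfsg.Agent.H477.HC Cfsg.Agent.H53.HC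
open Cfsg.Agent.H603.AP

universe u v

section reg

variable {F : Type u} [Field F] {V : Type v} [AddCommGroup V] [Module F V]

theorem comm_aeval {x g : V ≃ₗ[F] V} (h : g * x = x * g) (f : F[X]) (v : V) :
    g (aeval (toE x) f v) = aeval (toE x) f (g v) := by
  induction f using Polynomial.induction_on' with
  | add f g' hf hg => rw [map_add, LinearMap.add_apply, LinearMap.add_apply, map_add, hf, hg]
  | monomial n a =>
    rw [aeval_monomial, Module.End.mul_apply, Module.End.mul_apply, Module.algebraMap_end_apply,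
      Module.algebraMap_end_apply, map_smul]
    congr 1
    have h1 : ∀ w : V, (toE x ^ n) w = (x ^ n) w := by
      intro w
      rw [← Cfsg.Agent.H324.AP.aeval_X_pow x n w, map_pow, aeval_X]
    rw [h1, h1, ← LinearEquiv.mul_apply, ← LinearEquiv.mul_apply]
    have h2 : g * x ^ n = x ^ n * g := (Commute.pow_right (show Commute g x from h) n).eq
    rw [h2]

/-- what commutes with a regular element commutes with `P` -/
theorem regE_comm {P : Subgroup (V ≃ₗ[F] V)} {x g : V ≃ₗ[F] V} (hx : x ∈ RegE P) (h : g * x = x * g) {y : V ≃ₗ[F] V}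
    (hy : y ∈ P) : g * y = y * g := by
  obtain ⟨f, hf⟩ := hx.2 y hy
  have hf' : ∀ v, y v = aeval (toE x) f v := fun v => LinearMap.congr_fun hf v
  apply LinearEquiv.ext
  intro v
  rw [LinearEquiv.mul_apply, LinearEquiv.mul_apply, hf', hf', comm_aeval h]

/-- invariant subspaces of a regular element -/
theorem regE_inv {P : Subgroup (V ≃ₗ[F] V)} {x : V ≃ₗ[F] V} (hx : x ∈ RegE P) {W : Submodule F V}
    (hW : ∀ w ∈ W, x w ∈ W) : ∀ y ∈ P, ∀ w ∈ W, y w ∈ W := by
  intro y hy w hw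
  obtain ⟨f, hf⟩ := hx.2 y hy
  have hf' : y w = aeval (toE x) f w := LinearMap.congr_fun hf w
  rw [hf']
  exact aeval_mem hW f hw

/-- powers -/
theorem regE_pow {P : Subgroup (V ≃ₗ[F] V)} {x : V ≃ₗ[F] V} (hx : x ∈ RegE P) {m l : ℕ} (hml : (x ^ m) ^ l = x) :
    x ^ m ∈ RegE P := by
  refine ⟨P.pow_mem hx.1 m, fun y hy => ?_⟩
  obtain ⟨f, hf⟩ := hx.2 y hy
  refine ⟨f.comp (X ^ l), ?_⟩
  rw [hf, aeval_comp]
  congr 1
  have h1 : aeval (toE (x ^ m)) (X ^ l : F[X]) = toE x := by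
    apply LinearMap.ext
    intro v
    rw [Cfsg.Agent.H324.AP.aeval_X_pow, hml]
    rfl
  rw [h1]

end reg

section main

variable {K : Type u} [Field K] [Finite K] {V : Type v} [AddCommGroup V] [Module K V] [Finite V]
  [FiniteDimensional K V] {p : ℕ} [hp : Fact p.Prime]

/-- **H1 for isometry groups** -/
theorem not_dvd_aux (Fm : CForm K V) {a c : ℕ} (ha0 : 0 < a) (hc : 0 < c)
    (ho : orderOf ((Nat.card K : ℕ) : ZMod p) = 2 * c) (hdim : finrank K V < 6 * c) (P : Sylow p Fm.iso)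
    (hPc : Nat.card P = p ^ (2 * a)) {D : Fin 2 → Submodule K V}
    (H : TwoB p a c (splF Fm) ((P : Subgroup Fm.iso).map Fm.iso.subtype) D)
    (hcnt : (p ^ a - 1) * (p ^ a - 1 - 2 * c) ≤ Nat.card (RegE ((P : Subgroup Fm.iso).map Fm.iso.subtype)))
    (hfus : ∀ x ∈ RegE ((P : Subgroup Fm.iso).map Fm.iso.subtype),
      Nat.card {x' : V ≃ₗ[K] V // x' ∈ RegE ((P : Subgroup Fm.iso).map Fm.iso.subtype) ∧
        ∃ g ∈ Fm.iso, g * x * g⁻¹ = x'} ≤ 8 * c ^ 2)
    {M : Ideal AlgInt} (hM : IsPModular p M) {Y Y' : IrrCharacter Fm.iso} (hY : Y ∈ principalBlock M Fm.iso)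
    (hne : Y ≠ Y') (hv : ∀ g : Fm.iso, (∀ W ∈ Fm.Om (2 * c), g ∉ stabW Fm.iso.subtype W) →
      (Y : Fm.iso → ℂ) g + (Y' : Fm.iso → ℂ) g = 0) : ¬ p ∣ charDegree (Y : Fm.iso → ℂ) := by
  have hfinG : Finite (V ≃ₗ[K] V) := Finite.of_injective (fun g : V ≃ₗ[K] V => (g : V → V)) DFunLike.coe_injective
  set P' := (P : Subgroup Fm.iso).map Fm.iso.subtype with hP'
  rcases Nat.lt_or_ge a 2 with ha1 | ha2
  · have ha' : a = 1 := by omega
    subst ha'
    exact Cfsg.Agent.H248.K4.not_dvd_degree hM P (by rw [hPc]) hY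
  have hpP : p ∣ Nat.card Fm.iso := by
    have h1 : p ∣ Nat.card P := by
      rw [hPc]
      exact dvd_pow_self p (by omega)
    exact h1.trans (Subgroup.card_subgroup_dvd_card _)
  have hcp : 2 * c ≤ p - 1 := by
    have h1 : orderOf ((Nat.card K : ℕ) : ZMod p) ∣ p - 1 := by
      apply orderOf_dvd_of_pow_eq_one
      apply ZMod.pow_card_sub_one_eq_one
      intro h0
      rw [h0] at ho
      have h1 : orderOf (0 : ZMod p) = 0 := by
        rw [orderOf_eq_zero_iff']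
        intro n hn h2
        rw [zero_pow hn.ne'] at h2
        exact zero_ne_one h2
      omega
    rw [ho] at h1
    exact Nat.le_of_dvd (by have := hp.out.two_le; omega) h1
  have hmem : ∀ x : Fm.iso, (x : V ≃ₗ[K] V) ∈ P' ↔ x ∈ (P : Subgroup Fm.iso) := by
    intro x
    constructor
    · rintro ⟨y, hy, hyx⟩
      have : y = x := Subtype.ext hyx
      rwa [← this]
    · intro hx
      exact ⟨x, hx, rfl⟩
  have hab : ∀ x ∈ (P : Subgroup Fm.iso), ∀ y ∈ (P : Subgroup Fm.iso), x * y = y * x := by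
    intro x hx y hy
    apply Subtype.ext
    exact H.ab _ ((hmem x).2 hx) _ ((hmem y).2 hy)
  refine Cfsg.Agent.H567.HT.not_dvd_of_fus hM P hab (fun x => (x : V ≃ₗ[K] V) ∈ RegE P') (fun x hx => (hmem x).1 hx.1)
    ?_ ?_ hne hY ?_ (m := 8 * c ^ 2) ?_ ?_
  · intro x hx g hg
    rw [Subgroup.mem_centralizer_singleton_iff] at hg
    rw [Subgroup.mem_centralizer_iff]
    intro y hy
    apply Subtype.ext
    exact (regE_comm hx (congrArg Subtype.val hg : (g : V ≃ₗ[K] V) * (x : V ≃ₗ[K] V) = x * g) ((hmem y).2 hy)).symm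
  · intro x hx m hm
    rw [Subgroup.coe_pow]
    have h1 : (x ^ m) ^ (m ^ (Nat.totient (Nat.card Fm.iso) - 1)) = x := by
      have h2 : 0 < Nat.totient (Nat.card Fm.iso) := Nat.totient_pos.2 Nat.card_pos
      rw [← pow_mul, ← pow_succ', Nat.sub_add_cancel h2]
      have h3 : m ^ Nat.totient (Nat.card Fm.iso) ≡ 1 [MOD Nat.card Fm.iso] := Nat.ModEq.pow_totient hm
      have h4 : x ^ (m ^ Nat.totient (Nat.card Fm.iso)) = x ^ 1 := by
        rw [pow_eq_pow_iff_modEq]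
        exact h3.of_dvd (orderOf_dvd_natCard x)
      rw [h4, pow_one]
    exact regE_pow hx (l := m ^ (Nat.totient (Nat.card Fm.iso) - 1)) (by
      have h2 := congrArg Subtype.val h1
      rwa [Subgroup.coe_pow, Subgroup.coe_pow] at h2)
  · intro w x hx hxw
    apply hv
    intro W hW hwW
    -- the `p`-part of `w` is a power of `w`
    obtain ⟨g, hg⟩ := isConj_iff.1 hxw
    have h1 : pq p w ∈ stabW Fm.iso.subtype W := by
      obtain ⟨s, hs1, hs2, ⟨k, hk⟩, hs3⟩ := pq_spec (p := p) w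
      have hcop : Nat.Coprime (orderOf (pq p w)) (orderOf s) := by
        rw [hk]
        exact Nat.Coprime.pow_left _ ((Nat.Prime.coprime_iff_not_dvd hp.out).2 hs3)
      obtain ⟨m, hm1, hm2⟩ := Nat.chineseRemainder hcop 1 0
      have h2 : w ^ m = pq p w := by
        rw [← hs1, hs2.mul_pow]
        have h3 : (pq p w) ^ m = (pq p w) ^ 1 := pow_eq_pow_iff_modEq.2 hm1
        have h4 : s ^ m = s ^ 0 := pow_eq_pow_iff_modEq.2 hm2
        rw [h3, h4, pow_one, pow_zero, mul_one, hs1]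
      rw [← h2]
      exact Subgroup.pow_mem _ hwW m
    -- `W' = g⁻¹ W` is fixed by `x`
    have hx' : x = g⁻¹ * pq p w * g := by rw [← hg]; group
    set W' : Submodule K V := W.map (((g⁻¹ : Fm.iso) : V ≃ₗ[K] V) : V →ₗ[K] V) with hW'
    have hTS : Fm.TS W' := CForm.TS.map hW.1 g⁻¹
    have hd : finrank K W' = 2 * c := by
      rw [hW', ← hW.2]
      exact LinearEquiv.finrank_map_eq ((g⁻¹ : Fm.iso) : V ≃ₗ[K] V) W
    have hxW : ∀ v ∈ W', (x : V ≃ₗ[K] V) v ∈ W' := by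
      rintro _ ⟨v, hv', rfl⟩
      have h2 : ((pq p w : Fm.iso) : V ≃ₗ[K] V) v ∈ W := by
        have h3 : W.map (((pq p w : Fm.iso) : V ≃ₗ[K] V) : V →ₗ[K] V) = W := h1
        rw [← h3]
        exact ⟨v, hv', rfl⟩
      refine ⟨_, h2, ?_⟩
      have h4 : x * g⁻¹ = g⁻¹ * pq p w := by rw [hx']; group
      have h5 := congrArg (fun t : Fm.iso => (t : V ≃ₗ[K] V) v) h4
      exact h5.symm
    exact Cfsg.Agent.H79.HT.no_ts H (regE_inv hx hxW) hTS.2 hd hdim
  · intro z
    by_cases hz : ∃ x : Fm.iso, (x : V ≃ₗ[K] V) ∈ RegE P' ∧ IsConj x z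
    · obtain ⟨x, hx, hxz⟩ := hz
      refine (Nat.card_le_card_of_injective (fun y : {x : Fm.iso // (x : V ≃ₗ[K] V) ∈ RegE P' ∧ IsConj x z} =>
        (⟨(y.1 : V ≃ₗ[K] V), y.2.1, ?_⟩ : {x' : V ≃ₗ[K] V // x' ∈ RegE P' ∧ ∃ g ∈ Fm.iso, g * x * g⁻¹ = x'})) ?_).trans
        (hfus x hx)
      · obtain ⟨g, hg⟩ := isConj_iff.1 (hxz.trans y.2.2.symm)
        exact ⟨g, g.2, by rw [← hg]; rfl⟩
      · intro y y' h
        have h1 := congrArg (fun t => (t : {x' : V ≃ₗ[K] V // x' ∈ RegE P' ∧ ∃ g ∈ Fm.iso, g * x * g⁻¹ = x'}).1) h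
        exact Subtype.ext (Subtype.ext h1)
    · have : IsEmpty {x : Fm.iso // (x : V ≃ₗ[K] V) ∈ RegE P' ∧ IsConj x z} := ⟨fun y => hz ⟨y.1, y.2⟩⟩
      rw [Nat.card_of_isEmpty]
      exact Nat.zero_le _
  · have h1 : Nat.card (RegE P') ≤ Nat.card {x : Fm.iso // (x : V ≃ₗ[K] V) ∈ RegE P'} := by
      refine Nat.card_le_card_of_injective (fun x : RegE P' =>
        (⟨⟨(x : V ≃ₗ[K] V), H.syl.le x.2.1⟩, x.2⟩ : {x : Fm.iso // (x : V ≃ₗ[K] V) ∈ RegE P'})) ?_
      intro y y' h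
      have h1 := congrArg (fun t => ((t : {x : Fm.iso // (x : V ≃ₗ[K] V) ∈ RegE P'}).1 : V ≃ₗ[K] V)) h
      exact Subtype.ext h1
    have h7 := Cfsg.Agent.H567.HT.arith hc hcp ha2
    have h8 : (p ^ a) ^ 2 = Nat.card P := by rw [hPc, ← pow_mul, mul_comm]
    rw [h8] at h7
    exact h7.trans_le (Nat.mul_le_mul_left _ (hcnt.trans h1))

end main

end Cfsg.Agent.H920.HT
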